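import Cfsg.Agent.H23.RuOut.Defs

/-!
Kernel checks for the automorphism group of the Rudvalis group.
-/

set_option autoImplicit false
set_option maxRecDepth 100000
set_option Elab.async false

namespace Cfsg.Agent.H23.RuOut

open Cfsg.Agent.PGroups.Ru

theorem prof_cert : ((List.range 4060).all fun y =>
    cycX.contains y || cycB.contains y || profNe y) = true := by decide +kernel

theorem sec_cert : ((List.range 4060).all secNe) = true := by decide +kernel

theorem dualX_cert : dualOK cycX dualX = true := by decide +kernel

end Cfsg.Agent.H23.RuOut
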