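import Cfsg.Agent.H23.RuOut.Defs

/-!
Kernel checks for the automorphism group of the Rudvalis group.
-/

set_option autoImplicit false
set_option maxRecDepth 100000
set_option Elab.async false

namespace Cfsg.Agent.H23.RuOut

open Cfsg.Agent.PGroups.Ru

theorem cls_cert : ((List.range 4060).all fun w =>
    let b := bitsY w
    (List.range 8).all fun c => (cls c).testBit w == (c == b)) = true := by decide +kernel

theorem cell_cert : ((cls 0).testBit 177 && cellData.testBit 177 &&
    eqMask (planes (members (cls 0))) 108 (cls 0) == cellData &&
    members cellData == cellPts) = true := by decide +kernel

theorem trans_cert : (cellPts.all fun w => (List.range 14).any fun i =>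
    run (List.replicate i 2) 177 == w || run (List.replicate i 2 ++ [4]) 177 == w) = true := by
  decide +kernel

theorem notin_cert : ((List.range 14).all fun i =>
    !(run (List.replicate i 2) 177 == run [4] 177)) = true := by decide +kernel

theorem det_cert : (detData.all detOK) = true := by decide +kernel

theorem dualY_cert : dualOK (cycY ++ detData.map fun e => e.1) dualY = true := by decide +kernel

end Cfsg.Agent.H23.RuOut
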