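import Cfsg.Agent.H23.RuOut.ChecksA
import Cfsg.Agent.H23.RuOut.ChecksB
import Cfsg.Agent.H23.RuOut.ChecksC

/-!
The kernel checks for the automorphism group of the Rudvalis group.
-/
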