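import Cfsg.Agent.H23.RuOut.Defs

/-!
Kernel checks for the automorphism group of the Rudvalis group.
-/

set_option autoImplicit false
set_option maxRecDepth 100000
set_option Elab.async false

namespace Cfsg.Agent.H23.RuOut

open Cfsg.Agent.PGroups.Ru

theorem s_cert : tabOK sData = true := by decide +kernel

theorem u_cert : tabOK uData = true := by decide +kernel

theorem rel_cert : (sameW [2, 0, 3] [0, 0, 0, 0] && sameW [4, 4] [] && sameW [2, 4] [4, 2] &&
    sameW (powW 14 [2]) []) = true := by decide +kernel

theorem word_cert : ((word1.all fun k => decide (k < 5)) &&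
    (List.range 4060).all fun j => run word1 j == tget (fwd 1) j) = true := by decide +kernel

theorem rel7_cert : sameW relW [] = true := by decide +kernel

theorem refute_cert : (!(run (substW 1 (powW 7 [2] ++ [4]) relW) 0 == 0) &&
    !(run (substW 2 [4] relW) 0 == 0) &&
    !(run (substW 2 (powW 7 [2] ++ [4]) relW) 0 == 0)) = true := by decide +kernel

end Cfsg.Agent.H23.RuOut
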