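import Cfsg.Agent.PGroups.RuPermDefs
import Cfsg.Agent.H23.RuOut.Data

/-!
Boolean checks for the automorphism group of the Rudvalis group on 4060 points.
-/

set_option autoImplicit false

namespace Cfsg.Agent.H23.RuOut

open Cfsg.Agent.PGroups.Ru

/-- validity of a table with its matrix -/
def tabOK (d : ℕ × ℕ × List ℕ) : Bool :=
  ((List.range 4060).all fun j =>
    decide (tget d.1 j < 4060) && decide (tget d.2.1 j < 4060) &&
      tget d.2.1 (tget d.1 j) == j && tget d.1 (tget d.2.1 j) == j &&
      pt (tget d.1 j) == lin d.2.2 (pt j)) &&
  (List.range 28).all fun a => (List.range 28).all fun b =>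
    form (lin d.2.2 (2 ^ a)) (lin d.2.2 (2 ^ b)) == form (2 ^ a) (2 ^ b)

/-- the table of a letter: `x`, `x⁻¹`, `s`, `s⁻¹`, `u` -/
def tab : ℕ → ℕ
  | 0 => fwd 0
  | 1 => bwd 0
  | 2 => sData.1
  | 3 => sData.2.1
  | _ => uData.1

/-- image of a point under a word -/
def run : List ℕ → ℕ → ℕ
  | [], j => j
  | k :: w, j => tget (tab k) (run w j)

/-- two words give the same permutation -/
def sameW (v w : List ℕ) : Bool := (List.range 4060).all fun j => run v j == run w j

/-- a power of a word -/
def powW (m : ℕ) (w : List ℕ) : List ℕ := (List.replicate m w).flatten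

/-- substitution of the letters -/
def substW (j : ℕ) (v : List ℕ) (w : List ℕ) : List ℕ :=
  w.flatMap fun k => if k = 0 then List.replicate j 0 else if k = 4 then v else [k]

/-- the relation used to separate the automorphisms -/
def relW : List ℕ := powW 7 [0, 2, 2, 2, 2, 4]

/-- the orbit of the first point under the element of order 29 -/
def cycX : List ℕ := (List.range 29).map fun i => iterT (fwd 0) i 0

/-- the other orbit with the same profile -/
def cycB : List ℕ := (List.range 29).map fun i => iterT (fwd 0) i 62

/-- the profile of a point differs from that of the first point -/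
def profNe (y : ℕ) : Bool :=
  (List.range 14).any fun i =>
    adj y (iterT (fwd 0) (i + 1) y) != adj 0 (iterT (fwd 0) (i + 1) 0)

/-- no point matches the second point for the other orbit -/
def secNe (w : ℕ) : Bool :=
  (List.range 29).any fun i =>
    adj w (iterT (fwd 0) i 62) != adj 1 (iterT (fwd 0) i 0)

/-- the table of the element of order 7, iterated -/
def yIter (k : ℕ) (w : ℕ) : ℕ := run (List.replicate (2 * k) 2) w

/-- the class of a point for the element of order 7 -/
def bitsY (w : ℕ) : ℕ :=
  (if adj w (yIter 1 w) then 1 else 0) + (if adj w (yIter 2 w) then 2 else 0) +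
    (if adj w (yIter 3 w) then 4 else 0)

/-- the mask of a class -/
def cls (b : ℕ) : ℕ := clsData.getD b 0

/-- the orbit of the chosen point under the element of order 7 -/
def cycY : List ℕ := (List.range 7).map fun k => yIter k 177

/-- positions with given adjacencies to a list of points -/
def patMask : List ℕ → ℕ → ℕ → ℕ
  | [], _, m => m
  | p :: l, q, m =>
    if adj p q then patMask l q m &&& nb p
    else patMask l q m ^^^ (patMask l q m &&& nb p)

/-- a point is the only one with its pattern -/
def detOK (e : ℕ × ℕ × ℕ) : Bool :=
  decide (e.1 < 4060) && decide (e.2.1 < 8) && (cls e.2.1).testBit e.1 &&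
    eqMask (planes (members (cls 0))) e.2.2 (patMask cycY e.1 (cls e.2.1)) == 2 ^ e.1

/-- a dual basis inside a list of points -/
def dualOK (L : List ℕ) (D : List (List ℕ)) : Bool :=
  (List.range 28).all fun a => ((D.getD a []).all fun s => L.contains s) &&
    (List.range 28).all fun b => form (xorPts (D.getD a [])) (2 ^ b) == (a == b)

end Cfsg.Agent.H23.RuOut
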