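import Cfsg.Agent.H23.RuOut.Words
import Cfsg.Prelude.Def_KGroupFacts

/-!
Every automorphism of the Rudvalis group on 4060 points is inner.
-/

set_option autoImplicit false

namespace Cfsg.Agent.H23.RuOut

open Cfsg.Agent.PGroups.Ru

theorem residue_cases : ∀ k : ℕ, k < 29 → k ≠ 0 → ∃ i : Fin 14,
    4 ^ (i : ℕ) * k % 29 = 1 ∨ 4 ^ (i : ℕ) * k % 29 = 2 := by decide +kernel

theorem shift_cases : ∀ c : ℕ, c < 29 → ∃ d : Fin 29, (50 * (d : ℕ) + c) % 29 = 0 := by
  decide +kernel

theorem s2_moves : (!(run [2, 2] 177 == 177)) = true := by decide +kernel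

theorem S_pow_conj (i : ℕ) : ∀ m : ℕ, S ^ i * X ^ m * (S ^ i)⁻¹ = X ^ (4 ^ i * m) := by
  induction i with
  | zero => intro m; simp
  | succ i ih =>
    intro m
    rw [pow_succ, mul_inv_rev, show S ^ i * S * X ^ m * (S⁻¹ * (S ^ i)⁻¹) =
      S ^ i * (S * X ^ m * S⁻¹) * (S ^ i)⁻¹ by group, ← conj_pow, S_conj, ← pow_mul, ih]
    congr 1
    ring

theorem X_pow_mod (m : ℕ) : X ^ m = X ^ (m % 29) := by rw [← pow_mod_orderOf, order_X]

theorem pow_X_push (d : ℕ) : X ^ d * S = S * X ^ (22 * d) := by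
  have h := S_pow_conj 1 (22 * d)
  rw [pow_one, pow_one, X_pow_mod (4 * (22 * d)), show 4 * (22 * d) % 29 = d % 29 by omega,
    ← X_pow_mod, mul_inv_eq_iff_eq_mul] at h
  exact h.symm

theorem order_Y : orderOf (S ^ 2) = 7 := by
  refine orderOf_eq_prime (hp := ⟨by norm_num⟩) (by rw [← pow_mul]; exact S_pow) fun h => ?_
  have h1 := s2_moves
  simp only [Bool.not_eq_true', beq_eq_false_iff_ne] at h1
  apply h1
  have e := run_eq [2, 2] (fp 177)
  rw [show el [2, 2] = S ^ 2 by simp [el, letG, pow_two], h, act_one,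
    fp_val (by norm_num : 177 < 4060)] at e
  exact e.symm

theorem closure_X_one : Subgroup.closure ({X, ⟨perm 1, perm_mem_aut (by norm_num)⟩} : Set autGrp) =
    ⊤ := by
  apply Subgroup.map_injective autGrp.subtype_injective
  rw [MonoidHom.map_closure, ← MonoidHom.range_eq_map, Subgroup.range_subtype, Set.image_pair]
  exact kGrp_eq

theorem el_word1 : el word1 = ⟨perm 1, perm_mem_aut (by norm_num)⟩ := by
  have h := word_cert
  simp only [Bool.and_eq_true, List.all_eq_true, List.mem_range, beq_iff_eq] at h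
  refine ext_act fun j => Fin.ext ?_
  rw [run_eq, h.2 _ j.2]
  exact (perm_val (g := 1) (by norm_num) j).symm

/-- an endomorphism fixing the three elements is the identity -/
theorem eq_id_of_fix (β : MulAut autGrp) (hx : β X = X) (hs : β S = S) (hu : β U = U) : β = 1 := by
  have hl : ∀ k, β (letG k) = letG k
    | 0 => hx
    | 1 => by rw [show letG 1 = X⁻¹ from rfl, map_inv, hx]
    | 2 => hs
    | 3 => by rw [show letG 3 = S⁻¹ from rfl, map_inv, hs]
    | _ + 4 => hu
  have hw : β (el word1) = el word1 := by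
    rw [el, map_list_prod, List.map_map]
    exact congrArg List.prod (List.map_congr_left fun k _ => hl k)
  have htop : (⊤ : Subgroup autGrp) ≤ β.toMonoidHom.eqLocus (MonoidHom.id _) := by
    rw [← closure_X_one, Subgroup.closure_le]
    rintro _ (rfl | rfl)
    · exact hx
    · rw [← el_word1]; exact hw
  exact MulEquiv.ext fun a => htop (Subgroup.mem_top a)

/-- every automorphism can be normalised on the first two elements -/
theorem exists_normal (α : MulAut autGrp) : ∃ (g : autGrp) (j : ℕ), (j = 1 ∨ j = 2) ∧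
    (MulAut.conj g * α) X = X ^ j ∧ (MulAut.conj g * α) S = S := by
  classical
  haveI : Fact (Nat.Prime 29) := ⟨by norm_num⟩
  have hfac : (Nat.card autGrp).factorization 29 = 1 := by
    rw [card_aut, show (145926144000 : ℕ) = 29 * 5031936000 from rfl,
      Nat.factorization_mul (by norm_num) (by norm_num)]
    simp [Nat.Prime.factorization_self (show Nat.Prime 29 by norm_num),
      Nat.factorization_eq_zero_of_not_dvd (show ¬ 29 ∣ 5031936000 by norm_num)]
  have hP : Nat.card (Subgroup.zpowers X) = 29 ^ (Nat.card autGrp).factorization 29 := by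
    rw [hfac, pow_one, Nat.card_zpowers, order_X]
  have hQ : Nat.card (Subgroup.zpowers (α X)) = 29 ^ (Nat.card autGrp).factorization 29 := by
    rw [hfac, pow_one, Nat.card_zpowers, MulEquiv.orderOf_eq, order_X]
  let P : Sylow 29 autGrp := Sylow.ofCard _ hP
  let Q : Sylow 29 autGrp := Sylow.ofCard _ hQ
  obtain ⟨g, hg⟩ := MulAction.exists_smul_eq autGrp Q P
  have hmem : g * α X * g⁻¹ ∈ Subgroup.zpowers X := by
    have h : g * α X * g⁻¹ ∈ (((g • Q : Sylow 29 autGrp)) : Subgroup autGrp) := by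
      rw [Sylow.coe_subgroup_smul]
      exact ⟨α X, Subgroup.mem_zpowers _, by simp [MulAut.conj_apply]⟩
    rw [hg] at h
    simpa [P] using h
  obtain ⟨k, hk, hkeq⟩ : ∃ k, k < 29 ∧ X ^ k = g * α X * g⁻¹ := by
    obtain ⟨k, hk⟩ := mem_powers_iff_mem_zpowers.mpr hmem
    exact ⟨k % 29, Nat.mod_lt _ (by norm_num), by rw [← X_pow_mod]; exact hk⟩
  have hk0 : k ≠ 0 := by
    rintro rfl
    rw [pow_zero, eq_comm, conj_eq_one_iff, MulEquiv.map_eq_one_iff] at hkeq
    exact X_ne hkeq
  obtain ⟨i, hi⟩ := residue_cases k hk hk0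
  set β : MulAut autGrp := MulAut.conj (S ^ (i : ℕ) * g) * α with hβ
  have hβa : ∀ a, β a = S ^ (i : ℕ) * (g * α a * g⁻¹) * (S ^ (i : ℕ))⁻¹ := fun a => by
    show S ^ (i : ℕ) * g * α a * (S ^ (i : ℕ) * g)⁻¹ = _
    group
  obtain ⟨j, hj, hx⟩ : ∃ j, (j = 1 ∨ j = 2) ∧ β X = X ^ j := by
    refine ⟨4 ^ (i : ℕ) * k % 29, hi, ?_⟩
    rw [hβa, ← hkeq, S_pow_conj, ← X_pow_mod]
  have hcomm : Commute (S⁻¹ * β S) X := by
    obtain ⟨m, hm⟩ : ∃ m, (X ^ j) ^ m = X := by
      rcases hj with rfl | rfl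
      · exact ⟨1, by simp⟩
      · refine ⟨15, ?_⟩
        rw [← pow_mul, X_pow_mod]
        exact pow_one X
    have h1 : β S * X ^ j * (β S)⁻¹ = (X ^ j) ^ 4 := by
      rw [← hx, ← map_pow, ← map_inv, ← map_mul, ← map_mul, S_conj]
    have h2 : β S * X * (β S)⁻¹ = X ^ 4 := by
      calc β S * X * (β S)⁻¹ = β S * (X ^ j) ^ m * (β S)⁻¹ := by rw [hm]
        _ = ((X ^ j) ^ 4) ^ m := by rw [← conj_pow, h1]
        _ = ((X ^ j) ^ m) ^ 4 := by rw [← pow_mul, ← pow_mul (X ^ j), mul_comm 4 m]
        _ = X ^ 4 := by rw [hm]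
    have h3 : β S * X * (β S)⁻¹ = S * X * S⁻¹ := by rw [h2, S_conj]
    show S⁻¹ * β S * X = X * (S⁻¹ * β S)
    calc S⁻¹ * β S * X = S⁻¹ * (β S * X * (β S)⁻¹) * β S := by group
      _ = S⁻¹ * (S * X * S⁻¹) * β S := by rw [h3]
      _ = X * (S⁻¹ * β S) := by group
  obtain ⟨c, hc⟩ := centralizer_X hcomm
  have hS : β S = S * X ^ (c % 29) := by rw [← X_pow_mod, ← hc]; group
  obtain ⟨d, hd⟩ := shift_cases (c % 29) (Nat.mod_lt _ (by norm_num))
  have hinv : (X ^ (d : ℕ))⁻¹ = X ^ (28 * (d : ℕ)) := by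
    refine inv_eq_of_mul_eq_one_right ?_
    rw [← pow_add, X_pow_mod, show ((d : ℕ) + 28 * (d : ℕ)) % 29 = 0 by omega, pow_zero]
  refine ⟨X ^ (d : ℕ) * (S ^ (i : ℕ) * g), j, hj, ?_, ?_⟩ <;>
    rw [map_mul MulAut.conj, mul_assoc, MulAut.mul_apply, ← hβ, MulAut.conj_apply]
  · rw [hx, hinv, ← pow_add, ← pow_add]
    rw [X_pow_mod, X_pow_mod j]
    congr 1
    omega
  · rw [hS, ← mul_assoc, pow_X_push, hinv, mul_assoc, mul_assoc, ← pow_add, ← pow_add,
      X_pow_mod, show (22 * (d : ℕ) + (c % 29 + 28 * (d : ℕ))) % 29 = 0 by omega, pow_zero,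
      mul_one]

/-- a word in the letters `x`, `s`, `u` under an automorphism -/
theorem map_el {β : MulAut autGrp} {j : ℕ} {v : List ℕ} (hx : β X = X ^ j) (hs : β S = S)
    (hu : β U = el v) : ∀ w : List ℕ, (∀ k ∈ w, k = 0 ∨ k = 2 ∨ k = 4) →
      β (el w) = el (substW j v w) := by
  intro w
  induction w with
  | nil => intro _; simp [el, substW]
  | cons k w ih =>
    intro hw
    rw [el_cons, map_mul, ih fun a ha => hw a (List.mem_cons_of_mem _ ha)]
    simp only [substW, List.flatMap_cons, el_append]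
    congr 1
    rcases hw k List.mem_cons_self with rfl | rfl | rfl
    · rw [if_pos rfl, el_replicate]; exact hx
    · simp [el, letG, hs]
    · simpa [letG] using hu

theorem letters_ok : ∀ k ∈ relW, k = 0 ∨ k = 2 ∨ k = 4 := by decide

/-- the images of the third element -/
theorem image_U {β : MulAut autGrp} (hs : β S = S) :
    β U = el [4] ∨ β U = el (powW 7 [2] ++ [4]) := by
  have hc : Commute (β U) (S ^ 2) := by
    have h := (S_comm_U.symm.pow_right 2).map β.toMonoidHom
    simpa [hs] using h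
  have hinj : ∀ i, i < 14 → U ≠ S ^ i := fun i hi h => by
    have h1 := List.all_eq_true.1 notin_cert i (List.mem_range.2 hi)
    simp only [Bool.not_eq_true', beq_eq_false_iff_ne] at h1
    apply h1
    have e1 := run_eq (List.replicate i 2) (fp 177)
    have e2 := run_eq [4] (fp 177)
    rw [fp_val (by norm_num : 177 < 4060)] at e1 e2
    rw [← e1, ← e2, el_replicate, show el [4] = U by simp [el, letG], h]
    rfl
  obtain ⟨i, hi, h | h⟩ := centralizer_S2 hc
  · exact absurd (β.injective (by rw [h, map_pow, hs])) (hinj i hi)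
  have h2 : (S ^ 2) ^ i = 1 := by
    have h3 : β U * β U = 1 := by rw [← map_mul, U_sq, map_one]
    rw [h] at h3
    rw [show S ^ i * U * (S ^ i * U) = S ^ i * (U * S ^ i) * U by group,
      (S_comm_U.symm.pow_right i).eq, mul_assoc, mul_assoc, U_sq, mul_one, ← pow_add] at h3
    rw [← pow_mul, two_mul]; exact h3
  have h7 : 7 ∣ i := order_Y ▸ orderOf_dvd_of_pow_eq_one h2
  obtain rfl | rfl : i = 0 ∨ i = 7 := by omega
  · exact Or.inl (by simpa [el, letG] using h)
  · refine Or.inr ?_
    rw [el_append, el_powW]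
    simpa [el, letG] using h

theorem refute {β : MulAut autGrp} {j : ℕ} {v : List ℕ} (hx : β X = X ^ j) (hs : β S = S)
    (hu : β U = el v) (hr : (!(run (substW j v relW) 0 == 0)) = true) : False := by
  simp only [Bool.not_eq_true', beq_eq_false_iff_ne] at hr
  apply hr
  have h := map_el hx hs hu relW letters_ok
  rw [el_eq rel7_cert, show el [] = 1 from rfl, map_one] at h
  have e := run_eq (substW j v relW) (fp 0)
  rw [← h, act_one, fp_val (by norm_num : 0 < 4060)] at e
  exact e.symm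

/-- every automorphism is inner -/
theorem inner (α : MulAut autGrp) : ∃ g, MulAut.conj g = α := by
  obtain ⟨g, j, hj, hx, hs⟩ := exists_normal α
  set β := MulAut.conj g * α with hβ
  have hr := refute_cert
  simp only [Bool.and_eq_true] at hr
  have hone : β = 1 := by
    rcases hj with rfl | rfl <;> rcases image_U hs with hu | hu
    · exact eq_id_of_fix β (by rw [hx, pow_one]) hs (by rw [hu]; simp [el, letG])
    · exact (refute hx hs hu hr.1.1).elim
    · exact (refute hx hs hu hr.1.2).elim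
    · exact (refute hx hs hu hr.2).elim
  exact ⟨g⁻¹, by rw [map_inv]; exact inv_eq_of_mul_eq_one_right hone⟩

/-- the outer automorphism group is trivial -/
theorem card_out : Nat.card (Out autGrp) = 1 := by
  rw [Nat.card_eq_one_iff_unique]
  refine ⟨⟨fun a b => ?_⟩, ⟨1⟩⟩
  have h : ∀ q : Out autGrp, q = 1 := by
    intro q
    induction q using QuotientGroup.induction_on with
    | _ α => exact (QuotientGroup.eq_one_iff α).mpr (inner α)
  rw [h a, h b]

end Cfsg.Agent.H23.RuOut
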