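import Cfsg.Agent.PGroups.RuPermGroup
import Cfsg.Agent.H23.RuOut.Checks

/-!
Words in the chosen elements of the Rudvalis group and the centralisers of two of them.
-/

set_option autoImplicit false

namespace Cfsg.Agent.H23.RuOut

open Cfsg.Agent.PGroups.Ru

theorem tab_spec {d : ℕ × ℕ × List ℕ} (h : tabOK d = true) {j : ℕ} (hj : j < 4060) :
    tget d.1 j < 4060 ∧ tget d.2.1 j < 4060 ∧ tget d.2.1 (tget d.1 j) = j ∧
      tget d.1 (tget d.2.1 j) = j ∧ pt (tget d.1 j) = lin d.2.2 (pt j) := by
  simp only [tabOK, Bool.and_eq_true, List.all_eq_true, List.mem_range, beq_iff_eq,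
    decide_eq_true_eq] at h
  obtain ⟨⟨⟨⟨h1, h2⟩, h3⟩, h4⟩, h5⟩ := h.1 j hj
  exact ⟨h1, h2, h3, h4, h5⟩

/-- the permutation of a valid table -/
def tabPerm (d : ℕ × ℕ × List ℕ) (h : tabOK d = true) : Equiv.Perm (Fin 4060) where
  toFun j := ⟨tget d.1 j.1, (tab_spec h j.2).1⟩
  invFun j := ⟨tget d.2.1 j.1, (tab_spec h j.2).2.1⟩
  left_inv j := Fin.ext (tab_spec h j.2).2.2.1
  right_inv j := Fin.ext (tab_spec h j.2).2.2.2.1

theorem tabPerm_mem (d : ℕ × ℕ × List ℕ) (h : tabOK d = true) : tabPerm d h ∈ autGrp := by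
  intro i j
  simp only [adj, show ∀ x : Fin 4060, pt (tabPerm d h x).1 = lin d.2.2 (pt x.1) from
    fun x => (tab_spec h x.2).2.2.2.2]
  simp only [tabOK, Bool.and_eq_true, List.all_eq_true, List.mem_range, beq_iff_eq,
    decide_eq_true_eq] at h
  set M := d.2.2
  have h1 : ∀ a, a < 28 → ∀ v, v < 2 ^ 28 →
      form (lin M (2 ^ a)) (lin M v) = form (2 ^ a) v := fun a ha =>
    xext (fun v => form (lin M (2 ^ a)) (lin M v)) (fun v => form (2 ^ a) v) (· ^^ ·) 28
      (fun u v => by simp only [lin_xor, form_xor_right]) (fun u v => form_xor_right _ u v)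
      (by simp [lin_zero, form_zero_right]) (fun b hb => h.2 a ha b hb)
  exact xext (fun u => form (lin M u) (lin M (pt j.1))) (fun u => form u (pt j.1)) (· ^^ ·) 28
    (fun u v => by simp only [lin_xor, form_xor_left]) (fun u v => form_xor_left u v _)
    (by simp [lin_zero, form_zero_left]) (fun a ha => h1 a ha _ (pt_lt _)) _ (pt_lt _)

/-- the element of order 29 -/
def X : autGrp := ⟨perm 0, perm_mem_aut (by norm_num)⟩

/-- the element of order 14 -/
def S : autGrp := ⟨tabPerm sData s_cert, tabPerm_mem _ _⟩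

/-- the involution -/
def U : autGrp := ⟨tabPerm uData u_cert, tabPerm_mem _ _⟩

/-- the element of a letter -/
def letG : ℕ → autGrp
  | 0 => X
  | 1 => X⁻¹
  | 2 => S
  | 3 => S⁻¹
  | _ => U

/-- the value of a word -/
def el (w : List ℕ) : autGrp := (w.map letG).prod

/-- action on points -/
def act (g : autGrp) (j : Fin 4060) : Fin 4060 := (g : Equiv.Perm (Fin 4060)) j

theorem act_mul (g h : autGrp) (j : Fin 4060) : act (g * h) j = act g (act h j) := rfl

theorem act_one (j : Fin 4060) : act 1 j = j := rfl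

theorem act_inj (g : autGrp) {i j : Fin 4060} (h : act g i = act g j) : i = j :=
  (g : Equiv.Perm (Fin 4060)).injective h

theorem ext_act {g h : autGrp} (e : ∀ j, act g j = act h j) : g = h :=
  Subtype.ext (Equiv.ext e)

theorem adj_act (g : autGrp) (i j : Fin 4060) : adj (act g i).1 (act g j).1 = adj i.1 j.1 :=
  g.2 i j

theorem el_append (v w : List ℕ) : el (v ++ w) = el v * el w := by simp [el]

theorem el_cons (k : ℕ) (w : List ℕ) : el (k :: w) = letG k * el w := by simp [el]

theorem el_replicate (m k : ℕ) : el (List.replicate m k) = letG k ^ m := by simp [el]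

theorem el_powW (m : ℕ) (w : List ℕ) : el (powW m w) = el w ^ m := by
  induction m with
  | zero => simp [powW, el]
  | succ m ih =>
    rw [powW, List.replicate_succ, List.flatten_cons, el_append, pow_succ', ← ih]
    rfl

theorem letG_val : ∀ (k : ℕ) (j : Fin 4060), (act (letG k) j).1 = tget (tab k) j.1
  | 0, j => perm_val (g := 0) (by norm_num) j
  | 1, j => perm_inv_val (g := 0) (by norm_num) j
  | 2, _ => rfl
  | 3, _ => rfl
  | _ + 4, _ => rfl

theorem run_eq : ∀ (w : List ℕ) (j : Fin 4060), (act (el w) j).1 = run w j.1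
  | [], _ => rfl
  | k :: w, j => by rw [el_cons, act_mul, letG_val, run_eq w]; rfl

theorem el_eq {v w : List ℕ} (h : sameW v w = true) : el v = el w := by
  simp only [sameW, List.all_eq_true, List.mem_range, beq_iff_eq] at h
  exact ext_act fun j => Fin.ext (by rw [run_eq, run_eq]; exact h _ j.2)

/-! ### Basic relations -/

theorem rels : el [2, 0, 3] = el [0, 0, 0, 0] ∧ el [4, 4] = el [] ∧ el [2, 4] = el [4, 2] ∧
    el (powW 14 [2]) = el [] := by
  have h := rel_cert
  simp only [Bool.and_eq_true] at h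
  exact ⟨el_eq h.1.1.1, el_eq h.1.1.2, el_eq h.1.2, el_eq h.2⟩

theorem X_pow : X ^ 29 = 1 :=
  Subtype.ext (perm_pow_eq_one (g := 0) (by norm_num) fun j hj => (order_spec.1 j hj).1.1.1)

theorem X_ne : X ≠ 1 := fun h =>
  perm_ne_one (g := 0) (by norm_num) (congrArg Subtype.val h)

theorem order_X : orderOf X = 29 := orderOf_eq_prime (hp := ⟨by norm_num⟩) X_pow X_ne

theorem S_conj : S * X * S⁻¹ = X ^ 4 := by
  have h := rels.1
  rw [show [0, 0, 0, 0] = List.replicate 4 0 from rfl, el_replicate] at h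
  simpa [el, letG, mul_assoc] using h

theorem U_sq : U * U = 1 := by simpa [el, letG] using rels.2.1

theorem S_comm_U : Commute S U := by
  show S * U = U * S
  simpa [el, letG] using rels.2.2.1

theorem S_pow : S ^ 14 = 1 := by
  have h := rels.2.2.2
  rw [el_powW] at h
  simpa [el, letG] using h

theorem iterT_X (k : ℕ) (j : Fin 4060) : iterT (fwd 0) k j.1 = (act (X ^ k) j).1 :=
  (perm_pow_val (g := 0) (by norm_num) k j).symm

theorem yIter_eq (k : ℕ) (j : Fin 4060) : yIter k j.1 = (act ((S ^ 2) ^ k) j).1 := by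
  rw [← pow_mul, yIter, ← run_eq, el_replicate]
  rfl

/-! ### Fixing a dual basis -/

theorem eq_one_of_dual {L : List ℕ} {D : List (List ℕ)} (h : dualOK L D = true) {g : autGrp}
    (hf : ∀ a ∈ L, ∃ p : Fin 4060, p.1 = a ∧ act g p = p) : g = 1 := by
  simp only [dualOK, List.all_eq_true, List.mem_range, Bool.and_eq_true, beq_iff_eq,
    List.contains_iff_mem] at h
  refine ext_act fun y => key_inj ?_
  congr 1
  rw [act_one]
  apply Nat.eq_of_testBit_eq
  intro a
  by_cases ha : a < 28
  · obtain ⟨hs, hd⟩ := h a ha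
    have hx : ∀ v, v < 2 ^ 28 → v.testBit a = form (xorPts (D.getD a [])) v := fun v hv =>
      (xext (fun w => form (xorPts (D.getD a [])) w) (fun w => w.testBit a) (· ^^ ·) 28
        (fun u w => form_xor_right _ u w) (fun u w => by simp only [Nat.testBit_xor])
        (by simp [form_zero_right]) (fun b hb => by
          rw [hd b hb, Nat.testBit_two_pow]
          by_cases hab : a = b
          · simp [hab]
          · simp [hab, Ne.symm hab]) v hv).symm
    rw [hx _ (pt_lt _), hx _ (pt_lt _)]
    suffices H : ∀ l : List ℕ, (∀ s ∈ l, s ∈ L) →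
        form (xorPts l) (pt (act g y).1) = form (xorPts l) (pt y.1) from H _ hs
    intro l
    induction l with
    | nil => intro _; simp [xorPts, form_zero_left]
    | cons s l ih =>
      intro hl
      obtain ⟨p, rfl, hp⟩ := hf s (hl s List.mem_cons_self)
      simp only [xorPts, form_xor_left]
      rw [ih fun t ht => hl t (List.mem_cons_of_mem _ ht)]
      congr 1
      have h1 := adj_act g p y
      rw [hp] at h1
      exact h1
  · have hb : ∀ v, v < 2 ^ 28 → v.testBit a = false := fun v hv =>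
      Nat.testBit_lt_two_pow (lt_of_lt_of_le hv (Nat.pow_le_pow_right (by norm_num) (by omega)))
    rw [hb _ (pt_lt _), hb _ (pt_lt _)]

/-! ### The centraliser of the element of order 29 -/

theorem cycX_mem {a : ℕ} (h : a ∈ cycX) : ∃ i, act (X ^ i) (fp 0) = fp a ∧ a < 4060 := by
  simp only [cycX, List.mem_map, List.mem_range] at h
  obtain ⟨i, -, rfl⟩ := h
  have e := iterT_X i (fp 0)
  rw [fp_val (by norm_num : 0 < 4060)] at e
  refine ⟨i, ?_, e ▸ (act (X ^ i) (fp 0)).2⟩
  rw [e, fp_fin]

theorem fix_cycle {g : autGrp} (hg : Commute g X) (h0 : act g (fp 0) = fp 0) : g = 1 := by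
  refine eq_one_of_dual dualX_cert fun a ha => ?_
  obtain ⟨i, hi, hlt⟩ := cycX_mem ha
  refine ⟨fp a, fp_val hlt, ?_⟩
  rw [← hi, ← act_mul, (hg.pow_right i).eq, act_mul, h0]

theorem centralizer_X {c : autGrp} (hc : Commute c X) : ∃ i, c = X ^ i := by
  set y := act c (fp 0) with hy
  have hp := List.all_eq_true.1 prof_cert y.1 (List.mem_range.2 y.2)
  simp only [Bool.or_eq_true, List.contains_iff_mem] at hp
  rcases hp with (h | h) | h
  · obtain ⟨i, hi, -⟩ := cycX_mem h
    refine ⟨i, inv_mul_eq_one.mp (fix_cycle ((Commute.pow_self X i).inv_left.mul_left hc) ?_) |>.symm⟩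
    rw [act_mul, ← hy]
    apply act_inj (X ^ i)
    rw [← act_mul, mul_inv_cancel, act_one, hi, fp_fin]
  · exfalso
    simp only [cycB, List.mem_map, List.mem_range] at h
    obtain ⟨i, -, hi⟩ := h
    set d := (X ^ i)⁻¹ * c with hd
    have hdc : Commute d X := (Commute.pow_self X i).inv_left.mul_left hc
    have hd0 : act d (fp 0) = fp 62 := by
      apply act_inj (X ^ i)
      rw [← act_mul, hd, mul_inv_cancel_left, ← hy]
      apply Fin.ext
      rw [← iterT_X, fp_val (by norm_num : 62 < 4060)]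
      exact hi.symm
    have hs := List.all_eq_true.1 sec_cert (act d (fp 1)).1 (List.mem_range.2 (act d (fp 1)).2)
    simp only [secNe, List.any_eq_true, List.mem_range, bne_iff_ne, ne_eq] at hs
    obtain ⟨k, -, hne⟩ := hs
    apply hne
    have e1 : iterT (fwd 0) k 62 = (act d (act (X ^ k) (fp 0))).1 := by
      rw [← act_mul, (hdc.pow_right k).eq, act_mul, hd0, ← iterT_X,
        fp_val (by norm_num : 62 < 4060)]
    have e2 : iterT (fwd 0) k 0 = (act (X ^ k) (fp 0)).1 := by
      rw [← iterT_X, fp_val (by norm_num : 0 < 4060)]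
    rw [e1, e2, adj_act, fp_val (by norm_num : 1 < 4060)]
  · exfalso
    simp only [profNe, List.any_eq_true, List.mem_range, bne_iff_ne, ne_eq] at h
    obtain ⟨i, -, hne⟩ := h
    apply hne
    have e1 : iterT (fwd 0) (i + 1) y.1 = (act c (act (X ^ (i + 1)) (fp 0))).1 := by
      rw [iterT_X, ← act_mul c, (hc.pow_right (i + 1)).eq, act_mul]
    have e2 : iterT (fwd 0) (i + 1) 0 = (act (X ^ (i + 1)) (fp 0)).1 := by
      rw [← iterT_X, fp_val (by norm_num : 0 < 4060)]
    rw [e1, e2, hy, adj_act, fp_val (by norm_num : 0 < 4060)]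

/-! ### The centraliser of the element of order 7 -/

theorem bitsY_act {c : autGrp} (hc : Commute c (S ^ 2)) (w : Fin 4060) :
    bitsY (act c w).1 = bitsY w.1 := by
  have e : ∀ k, adj (act c w).1 (yIter k (act c w).1) = adj w.1 (yIter k w.1) := fun k => by
    rw [yIter_eq, yIter_eq, ← act_mul, ← (hc.pow_right k).eq, act_mul, adj_act]
  simp only [bitsY, e]

theorem cls_bit {b : ℕ} (hb : b < 8) (w : Fin 4060) : (cls b).testBit w.1 = (b == bitsY w.1) := by
  have h := List.all_eq_true.1 cls_cert w.1 (List.mem_range.2 w.2)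
  simp only [List.all_eq_true, List.mem_range, beq_iff_eq] at h
  exact h b hb

theorem pres_cls {c : autGrp} (hc : Commute c (S ^ 2)) {b : ℕ} (hb : b < 8) :
    Pres (c : Equiv.Perm (Fin 4060)) (cls b) := fun w => by
  show (cls b).testBit (act c w).1 = _
  rw [cls_bit hb, cls_bit hb, bitsY_act hc]

theorem agree_act {c : autGrp} (hc : Commute c (S ^ 2)) (k : ℕ) (w : Fin 4060) :
    agree (planeBits (planes (members (cls 0))) (act c w).1) k =
      agree (planeBits (planes (members (cls 0))) w.1) k := by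
  rw [planeBits_planes, planeBits_planes]
  exact congrArg (fun n => agree (bitsOf 13 n) k)
    (count_invariant nb_spec c.2 (pres_cls hc (by norm_num)) w)

theorem patMask_bit : ∀ (l : List ℕ) (q m : ℕ) (x : ℕ), (patMask l q m).testBit x = true ↔
    m.testBit x = true ∧ ∀ p ∈ l, (nb p).testBit x = adj p q
  | [], q, m, x => by simp [patMask]
  | p :: l, q, m, x => by
    rw [patMask, List.forall_mem_cons]
    have ih := patMask_bit l q m x
    by_cases h : adj p q = true
    · rw [if_pos h, Nat.testBit_and, Bool.and_eq_true, ih, h]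
      tauto
    · rw [if_neg h, Nat.testBit_xor, Nat.testBit_and]
      rw [Bool.not_eq_true] at h
      rw [h]
      cases h1 : (patMask l q m).testBit x <;> cases h2 : (nb p).testBit x <;>
        simp [h1] at ih ⊢ <;> tauto

theorem cycY_mem {a : ℕ} (h : a ∈ cycY) :
    ∃ k, act ((S ^ 2) ^ k) (fp 177) = fp a ∧ a < 4060 := by
  simp only [cycY, List.mem_map, List.mem_range] at h
  obtain ⟨k, -, rfl⟩ := h
  have e := yIter_eq k (fp 177)
  rw [fp_val (by norm_num : 177 < 4060)] at e
  refine ⟨k, ?_, e ▸ (act ((S ^ 2) ^ k) (fp 177)).2⟩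
  rw [e, fp_fin]

theorem fix_orbit {g : autGrp} (hg : Commute g (S ^ 2)) (h0 : act g (fp 177) = fp 177) :
    g = 1 := by
  have hcyc : ∀ a ∈ cycY, act g (fp a) = fp a ∧ a < 4060 := fun a ha => by
    obtain ⟨k, hk, hlt⟩ := cycY_mem ha
    exact ⟨by rw [← hk, ← act_mul, (hg.pow_right k).eq, act_mul, h0], hlt⟩
  refine eq_one_of_dual dualY_cert fun a ha => ?_
  rw [List.mem_append] at ha
  rcases ha with ha | ha
  · exact ⟨fp a, fp_val (hcyc a ha).2, (hcyc a ha).1⟩
  · obtain ⟨e, he, rfl⟩ := List.mem_map.mp ha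
    have hd := List.all_eq_true.1 det_cert e he
    simp only [detOK, Bool.and_eq_true, decide_eq_true_eq, beq_iff_eq] at hd
    obtain ⟨⟨⟨hq, hb⟩, hcl⟩, hm⟩ := hd
    refine ⟨fp e.1, fp_val hq, ?_⟩
    have h1 : (eqMask (planes (members (cls 0))) e.2.2
        (patMask cycY e.1 (cls e.2.1))).testBit e.1 = true := by
      rw [hm, Nat.testBit_two_pow_self]
    rw [testBit_eqMask, Bool.and_eq_true, patMask_bit] at h1
    obtain ⟨-, h1a⟩ := h1
    have h2 : (eqMask (planes (members (cls 0))) e.2.2
        (patMask cycY e.1 (cls e.2.1))).testBit (act g (fp e.1)).1 = true := by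
      rw [testBit_eqMask, Bool.and_eq_true, patMask_bit, agree_act hg, fp_val hq]
      refine ⟨⟨?_, fun p hp => ?_⟩, h1a⟩
      · rw [show (cls e.2.1).testBit (act g (fp e.1)).1 = _ from pres_cls hg hb (fp e.1),
          fp_val hq]
        exact hcl
      · obtain ⟨hfix, hlt⟩ := hcyc p hp
        have h3 := nb_spec (fp p) (act g (fp e.1))
        rw [fp_val hlt] at h3
        rw [h3]
        conv_lhs => arg 1; rw [← fp_val hlt, ← hfix]
        rw [adj_act, fp_val hlt, fp_val hq]
    rw [hm, Nat.testBit_two_pow, decide_eq_true_eq] at h2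
    exact Fin.ext (h2.symm.trans (fp_val hq).symm)

theorem centralizer_S2 {c : autGrp} (hc : Commute c (S ^ 2)) :
    ∃ i, i < 14 ∧ (c = S ^ i ∨ c = S ^ i * U) := by
  have hz := cell_cert
  simp only [Bool.and_eq_true, beq_iff_eq] at hz
  obtain ⟨⟨⟨hz0, hzc⟩, hcell⟩, hmem⟩ := hz
  have h1 : cellData.testBit (act c (fp 177)).1 = true := by
    rw [← hcell, testBit_eqMask, agree_act hc,
      show (cls 0).testBit (act c (fp 177)).1 = _ from pres_cls hc (by norm_num) (fp 177),
      fp_val (by norm_num : 177 < 4060)]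
    rw [← hcell, testBit_eqMask] at hzc
    exact hzc
  have h2 : (act c (fp 177)).1 ∈ cellPts := by
    rw [← hmem, members, List.mem_filter]
    exact ⟨List.mem_range.2 (act c (fp 177)).2, h1⟩
  have h3 := List.all_eq_true.1 trans_cert _ h2
  simp only [List.any_eq_true, List.mem_range, Bool.or_eq_true, beq_iff_eq] at h3
  obtain ⟨i, hi, h3⟩ := h3
  refine ⟨i, hi, ?_⟩
  have key : ∀ (w : List ℕ) (g : autGrp), el w = g → Commute g (S ^ 2) →
      run w 177 = (act c (fp 177)).1 → c = g := by
    intro w g hw hg he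
    refine (inv_mul_eq_one.mp (fix_orbit (hg.inv_left.mul_left hc) ?_)).symm
    apply act_inj g
    rw [← act_mul, mul_inv_cancel_left]
    apply Fin.ext
    rw [← hw, run_eq, fp_val (by norm_num : 177 < 4060), he]
  rcases h3 with h3 | h3
  · exact Or.inl (key _ _ (by rw [el_replicate]; rfl) (Commute.pow_pow_self S i 2) h3)
  · refine Or.inr (key _ _ ?_ ?_ h3)
    · rw [el_append, el_replicate]; simp [el, letG]
    · exact (Commute.pow_pow_self S i 2).mul_left (S_comm_U.symm.pow_right 2)

end Cfsg.Agent.H23.RuOut
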